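import Groth.Agent.Lib.WeakNormal.ProperDescent
import Groth.Agent.S14254
import Mathlib.FieldTheory.IsPerfectClosure
import Mathlib.AlgebraicGeometry.Morphisms.QuasiCompact

/-!
In characteristic `p`, global functions descend along universally closed surjections up to a
`p`-th power.
-/

universe u

open CategoryTheory CategoryTheory.Limits AlgebraicGeometry

namespace Groth.Agent.Lib.FrobColim.Descent

open Groth.Agent.Lib.WeakNormal Groth.Agent.Lib.WeakNormal.ProperDescent

variable {X Y : Scheme.{u}}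

/-- A universally closed surjection with descending functions is a universal homeomorphism. -/
theorem isUnivHomeo_of_descending {Z : Scheme.{u}} [IsAffine Z]
    (σ : Y ⟶ Z) [Surjective σ] (ω : Z ⟶ X) [UniversallyClosed ω] [Surjective ω]
    (hD : ∀ a : Γ(Z, ⊤), σ.appTop a ∈ descending (σ ≫ ω)) :
    FlatMor.IsUnivHomeo ω := by
  have hinj : Function.Injective ω := by
    intro q₁ q₂ hq
    obtain ⟨y₁, rfl⟩ := σ.surjective q₁
    obtain ⟨y₂, rfl⟩ := σ.surjective q₂
    refine eq_of_evaluation fun a => ?_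
    obtain ⟨g, hg⟩ := mem_descending_iff.mp (hD a)
    have hev : ∀ y, Z.Γevaluation (σ y) a = 0 ↔ g ((σ ≫ ω) y) = 0 := fun y => by
      rw [← map_eq_zero (σ.residueFieldMap y).hom, ← map_eq_zero ((σ ≫ ω).residueFieldMap y).hom,
        hg y, Scheme.Γevaluation_naturality_apply σ y a]
    rw [hev y₁, hev y₂]
    have e : (σ ≫ ω) y₁ = (σ ≫ ω) y₂ := hq
    exact (congrArg (fun x => g x = 0) e).to_iff
  have hres : HTop.ResidueFieldsIso ω := by
    refine (SnScheme.residueFieldsIso_iff ω).mpr fun q w => ?_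
    obtain ⟨y, rfl⟩ := σ.surjective q
    obtain ⟨a, b, hb, hab⟩ := exists_frac (σ y) w
    obtain ⟨ga, hga⟩ := mem_descending_iff.mp (hD a)
    obtain ⟨gb, hgb⟩ := mem_descending_iff.mp (hD b)
    refine ⟨ga (ω (σ y)) / gb (ω (σ y)), (σ.residueFieldMap y).hom.injective ?_⟩
    have ha : σ.residueFieldMap y (ω.residueFieldMap (σ y) (ga (ω (σ y)))) =
        σ.residueFieldMap y (Z.Γevaluation (σ y) a) := by
      rw [Scheme.Γevaluation_naturality_apply σ y a]
      have := hga y
      rw [Scheme.residueFieldMap_comp] at this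
      exact this
    have hb' : σ.residueFieldMap y (ω.residueFieldMap (σ y) (gb (ω (σ y)))) =
        σ.residueFieldMap y (Z.Γevaluation (σ y) b) := by
      rw [Scheme.Γevaluation_naturality_apply σ y b]
      have := hgb y
      rw [Scheme.residueFieldMap_comp] at this
      exact this
    have ha' := (σ.residueFieldMap y).hom.injective ha
    have hb'' := (σ.residueFieldMap y).hom.injective hb'
    congr 1
    rw [map_div₀, div_eq_iff (hb''.symm ▸ hb)]
    exact ha'.trans ((hab).symm.trans (congrArg (w * ·) hb''.symm))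
  have hui : UniversallyInjective ω := by
    refine ((tfae_universallyInjective ω).out 2 0 rfl rfl).mp ⟨hinj, fun q => ?_⟩
    algebraize [(ω.residueFieldMap q).hom]
    rw [RingHom.IsPurelyInseparable, isPurelyInseparable_iff_pow_mem _
      (ringExpChar (X.residueField (ω q)))]
    intro z
    exact ⟨0, by rw [pow_zero, pow_one]; exact ((ConcreteCategory.isIso_iff_bijective _).mp (hres q)).2 z⟩
  exact UnivHomeo.Basic.of_universallyClosed ω

/-- A function vanishing after a surjective pullback is nilpotent. -/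
theorem isNilpotent_of_appTop_eq_zero [CompactSpace X] (f : Y ⟶ X) [Surjective f] {a : Γ(X, ⊤)}
    (h : f.appTop a = 0) : IsNilpotent a := by
  rw [Scheme.isNilpotent_iff_basicOpen_eq_bot, Scheme.basicOpen_eq_bot_iff_forall_evaluation_eq_zero]
  rintro ⟨x, -⟩
  obtain ⟨y, rfl⟩ := f.surjective x
  refine (f.residueFieldMap y).hom.injective ?_
  refine (Scheme.Γevaluation_naturality_apply f y a).trans ?_
  rw [h, map_zero, map_zero]

/-- Descent of functions up to a `p`-th power. -/
theorem exists_pow_eq (p : ℕ) [Fact p.Prime] [IsAffine X] (hp : (p : Γ(X, ⊤)) = 0) (f : Y ⟶ X)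
    [UniversallyClosed f] [Surjective f] (s : Γ(Y, ⊤))
    (hs : (pullback.fst f f).appTop s = (pullback.snd f f).appTop s) :
    ∃ (N : ℕ) (a : Γ(X, ⊤)), f.appTop a = s ^ p ^ N := by
  have : CompactSpace Y := QuasiCompact.compactSpace_of_compactSpace f
  let := f.appTop.hom.toAlgebra
  let C := Algebra.adjoin Γ(X, ⊤) ({s} : Set Γ(Y, ⊤))
  let incl : CommRingCat.of C ⟶ Γ(Y, ⊤) := CommRingCat.ofHom C.val.toRingHom
  let alg : Γ(X, ⊤) ⟶ CommRingCat.of C := CommRingCat.ofHom (algebraMap Γ(X, ⊤) C)
  let σ : Y ⟶ Spec (CommRingCat.of C) := Y.toSpecΓ ≫ Spec.map incl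
  let ω : Spec (CommRingCat.of C) ⟶ X := Spec.map alg ≫ X.isoSpec.inv
  have hσω : σ ≫ ω = f := by
    simp only [σ, ω, Category.assoc]
    rw [← Spec.map_comp_assoc, ← Category.assoc, Iso.comp_inv_eq]
    exact (Scheme.toSpecΓ_naturality f).symm
  have hint : Algebra.IsIntegral Γ(X, ⊤) C := ⟨fun c =>
    (isIntegral_algHom_iff C.val Subtype.val_injective).mp
      (isIntegral_appTop_of_universallyClosed f c.1)⟩
  have : IsIntegralHom ω := by
    have : IsIntegralHom (Spec.map alg) :=
      IsIntegralHom.SpecMap_iff.mpr (algebraMap_isIntegral_iff.mpr hint)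
    infer_instance
  have hu : UniversallyClosed (σ ≫ ω) := by rw [hσω]; infer_instance
  have : UniversallyClosed σ := .of_comp_of_isSeparated σ ω
  have hσappTop : ∀ c : C,
      σ.appTop ((Scheme.ΓSpecIso (CommRingCat.of C)).inv c) = (c : Γ(Y, ⊤)) := fun c => by
    rw [← CommRingCat.comp_apply]
    simp only [σ, Scheme.Hom.comp_appTop, Scheme.toSpecΓ_appTop]
    rw [Scheme.ΓSpecIso_naturality, Iso.inv_hom_id_assoc]
    rfl
  have : IsDominant σ := by
    refine ⟨(PrimeSpectrum.isTopologicalBasis_basic_opens (R := C)).dense_iff.mpr ?_⟩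
    rintro _ ⟨c, rfl⟩ ⟨q, hq⟩
    by_contra hn
    refine hq (?_ : c ∈ (q : PrimeSpectrum C).asIdeal)
    have h0 : IsNilpotent (c : Γ(Y, ⊤)) := by
      rw [← hσappTop, Scheme.isNilpotent_iff_basicOpen_eq_bot, ← Scheme.preimage_basicOpen_top,
        basicOpen_eq_of_affine]
      ext y
      simp only [TopologicalSpace.Opens.coe_bot, Set.mem_empty_iff_false, iff_false]
      exact fun hy => hn ⟨σ y, hy, y, rfl⟩
    exact nilpotent_iff_mem_prime.1 ((IsNilpotent.map_iff (f := C.val) Subtype.val_injective).1 h0)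
      _ q.2
  have : Surjective σ := ⟨Set.range_eq_univ.mp
    (σ.isClosedMap.isClosed_range.closure_eq.symm.trans (σ.denseRange.closure_eq))⟩
  have hs' : Surjective (σ ≫ ω) := by rw [hσω]; infer_instance
  have : Surjective ω := Surjective.of_comp σ ω
  have hle : ∀ c : C, (c : Γ(Y, ⊤)) ∈ descending f := by
    rintro ⟨c, hc⟩
    induction hc using Algebra.adjoin_induction with
    | mem z hz => obtain rfl := Set.mem_singleton_iff.mp hz; exact mem_descending_of_pullback_eq f _ hs
    | algebraMap a => exact appTop_mem_descending f a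
    | add _ _ _ _ ha hb => exact add_mem ha hb
    | mul _ _ _ _ ha hb => exact mul_mem ha hb
  have hω : FlatMor.IsUnivHomeo ω := isUnivHomeo_of_descending σ ω fun a => by
    rw [hσω, ← Iso.hom_inv_id_apply (Scheme.ΓSpecIso (CommRingCat.of C)) a, hσappTop]
    exact hle _
  have hSpec : FlatMor.IsUnivHomeo (Spec.map alg) := by
    have h := UnivHomeo.Basic.comp hω (UnivHomeo.Basic.of_isIso X.isoSpec.hom)
    simpa [ω] using h
  rcases subsingleton_or_nontrivial Γ(Y, ⊤) with hY | hY
  · exact ⟨0, 0, Subsingleton.elim _ _⟩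
  have : CharP Γ(X, ⊤) p := by
    have : Nontrivial Γ(X, ⊤) := f.appTop.hom.domain_nontrivial
    exact CharP.charP_iff_prime_eq_zero (Fact.out) |>.2 hp
  have : CharP C p := by
    refine CharP.charP_iff_prime_eq_zero (Fact.out) |>.2 ?_
    rw [← map_natCast (algebraMap Γ(X, ⊤) C), hp, map_zero]
  let A := Γ(X, ⊤)
  let φ' : PerfectClosure A p →+* PerfectClosure C p :=
    PerfectRing.lift (PerfectClosure.of A p) ((PerfectClosure.of C p).comp (algebraMap A C)) p
  have hφ' : φ'.comp (PerfectClosure.of A p) = (PerfectClosure.of C p).comp (algebraMap A C) :=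
    PerfectRing.lift_comp _ _ p
  have hbij := (Groth.Agent.S14254.result p (algebraMap A C) (PerfectClosure.of A p)
    (PerfectClosure.of C p) φ' hφ').1 hSpec
  let c : C := ⟨s, Algebra.self_mem_adjoin_singleton _ s⟩
  obtain ⟨x, hx⟩ := hbij.2 (PerfectClosure.of C p c)
  obtain ⟨n, a, ha⟩ := IsPRadical.pow_mem (PerfectClosure.of A p) p x
  have h1 : PerfectClosure.of C p (c ^ p ^ n) = PerfectClosure.of C p (algebraMap A C a) := by
    rw [map_pow, ← hx, ← map_pow, ← ha, ← RingHom.comp_apply, hφ', RingHom.comp_apply]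
  have : ExpChar C p := ExpChar.prime Fact.out
  obtain ⟨k, hk⟩ := mem_pNilradical.1 (IsPRadical.ker_le (PerfectClosure.of C p) p
    (show c ^ p ^ n - algebraMap A C a ∈ RingHom.ker (PerfectClosure.of C p) by
      rw [RingHom.mem_ker, map_sub, h1, sub_self]))
  obtain ⟨m, hm⟩ : ∃ m, (c ^ p ^ n - algebraMap A C a) ^ p ^ m = 0 := ⟨k, hk⟩
  refine ⟨n + m, a ^ p ^ m, ?_⟩
  rw [sub_pow_expChar_pow, sub_eq_zero, ← pow_mul, ← pow_add, ← map_pow] at hm
  exact (congrArg Subtype.val hm).symm

end Groth.Agent.Lib.FrobColim.Descent
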