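import Groth.Prelude.Def_W4stkflatp2Frob
import Groth.Prelude.Def_QuotSh
import Mathlib.AlgebraicGeometry.Morphisms.QuasiSeparated
import Mathlib.AlgebraicGeometry.Sites.BigZariski
import Mathlib.CategoryTheory.Sites.LocallyInjective

/-!
Colimits along `p`-th powers of global functions and their Zariski sheafification.
-/

universe u

open CategoryTheory CategoryTheory.Limits AlgebraicGeometry Opposite HTop

namespace Groth.Agent.Lib.FrobColim.Sections

variable {p : ℕ}

/-- Classes are represented in every higher degree. -/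
theorem mk_eq_mk_add {X : Scheme.{u}} (n : ℕ) (a : Γ(X, ⊤)) (k : ℕ) :
    FrobColimSections.mk p n a = FrobColimSections.mk p (n + k) (a ^ p ^ k) := by
  induction k with
  | zero => simp
  | succ k ih =>
    rw [ih, FrobColimSections.sound, ← pow_mul, ← pow_succ, Nat.add_assoc]

theorem mk_eq_mk_of_le {X : Scheme.{u}} {n m : ℕ} (a : Γ(X, ⊤)) (h : n ≤ m) :
    FrobColimSections.mk p n a = FrobColimSections.mk p m (a ^ p ^ (m - n)) := by
  conv_rhs => rw [← Nat.add_sub_cancel' h]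
  rw [Nat.add_sub_cancel_left]
  exact mk_eq_mk_add n a (m - n)

/-- The equivalence generated by the power relation. -/
def Rel (X : Scheme.{u}) (x y : ℕ × Γ(X, ⊤)) : Prop :=
  ∃ k l, x.1 + k = y.1 + l ∧ x.2 ^ p ^ k = y.2 ^ p ^ l

theorem rel_of_eqvGen {X : Scheme.{u}} {x y : ℕ × Γ(X, ⊤)}
    (h : Relation.EqvGen (FrobColimRel p X) x y) : Rel (p := p) X x y := by
  induction h with
  | rel x y h =>
    subst h
    exact ⟨1, 0, by simp, by simp⟩
  | refl x => exact ⟨0, 0, rfl, rfl⟩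
  | symm x y _ ih => obtain ⟨k, l, h₁, h₂⟩ := ih; exact ⟨l, k, h₁.symm, h₂.symm⟩
  | trans x y z _ _ ih₁ ih₂ =>
    obtain ⟨k, l, h₁, h₂⟩ := ih₁
    obtain ⟨k', l', h₁', h₂'⟩ := ih₂
    refine ⟨k + k', l + l', by omega, ?_⟩
    rw [pow_add, pow_add, pow_mul, h₂, ← pow_mul, mul_comm (p ^ l) (p ^ k'), pow_mul, h₂', ← pow_mul,
      mul_comm (p ^ l') (p ^ l)]

theorem exists_of_mk_eq {X : Scheme.{u}} {n : ℕ} {a b : Γ(X, ⊤)}
    (h : FrobColimSections.mk p n a = FrobColimSections.mk p n b) :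
    ∃ k, a ^ p ^ k = b ^ p ^ k := by
  obtain ⟨k, l, h₁, h₂⟩ := rel_of_eqvGen (Quot.eqvGen_exact h)
  obtain rfl : k = l := Nat.add_left_cancel h₁
  exact ⟨k, h₂⟩

theorem mk_eq_of_pow {X : Scheme.{u}} {n k : ℕ} {a b : Γ(X, ⊤)} (h : a ^ p ^ k = b ^ p ^ k) :
    FrobColimSections.mk p n a = FrobColimSections.mk p n b := by
  rw [mk_eq_mk_add n a k, h, ← mk_eq_mk_add n b k]

theorem pow_eq_of_le {R : Type*} [CommRing R] {a b : R} {k K : ℕ} (h : a ^ p ^ k = b ^ p ^ k)
    (hle : k ≤ K) : a ^ p ^ K = b ^ p ^ K := by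
  obtain ⟨d, rfl⟩ := Nat.exists_eq_add_of_le hle
  rw [pow_add, pow_mul, h, ← pow_mul]

theorem exists_rep {X : Scheme.{u}} (x : FrobColimSections p X) :
    ∃ n a, FrobColimSections.mk p n a = x := by
  induction x using Quot.ind with
  | mk y => exact ⟨y.1, y.2, rfl⟩

theorem map_mk {X Y : Scheme.{u}} (f : X ⟶ Y) (n : ℕ) (a : Γ(Y, ⊤)) :
    FrobColimSections.map p f (FrobColimSections.mk p n a) =
      FrobColimSections.mk p n (f.appTop a) := rfl

section Glue

variable {U : Scheme.{u}} {ι : Type u} [Finite ι] (W : ι → U.Opens) (hW : ⨆ i, W i = ⊤)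

theorem appTop_ι_eq (i : ι) (a : Γ(U, ⊤)) :
    (W i).ι.appTop a = (W i).topIso.inv (U.presheaf.map (homOfLE le_top : W i ⟶ ⊤).op a) := by
  rw [← CommRingCat.comp_apply]
  congr 2
  simp only [Scheme.Opens.topIso_inv, Scheme.Opens.ι_appTop]
  erw [← U.presheaf.map_comp]
  rfl

include hW in
theorem eq_of_forall_ι {a b : Γ(U, ⊤)} (h : ∀ i, (W i).ι.appTop a = (W i).ι.appTop b) : a = b :=
  U.sheaf.eq_of_locally_eq' W ⊤ (fun i => homOfLE le_top) hW.ge a b fun i =>
    (W i).topIso.commRingCatIsoToRingEquiv.symm.injective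
      ((appTop_ι_eq W i a).symm.trans ((h i).trans (appTop_ι_eq W i b)))

include hW in
theorem eq_of_forall_map {x y : FrobColimSections p U}
    (h : ∀ i, FrobColimSections.map p (W i).ι x = FrobColimSections.map p (W i).ι y) : x = y := by
  have := Fintype.ofFinite ι
  obtain ⟨n, a, rfl⟩ := exists_rep x
  obtain ⟨m, b, rfl⟩ := exists_rep y
  rw [mk_eq_mk_of_le a (le_max_left n m), mk_eq_mk_of_le b (le_max_right n m)] at h ⊢
  choose k hk using fun i => exists_of_mk_eq (h i)
  refine mk_eq_of_pow (k := Finset.univ.sup k) (eq_of_forall_ι W hW fun i => ?_)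
  refine (map_pow _ _ _).trans (Eq.trans ?_ (map_pow _ _ _).symm)
  exact pow_eq_of_le (hk i) (Finset.le_sup (Finset.mem_univ i))

include hW in
theorem exists_glue (x : ∀ i, FrobColimSections p (W i : Scheme.{u}))
    (h : ∀ i j, FrobColimSections.map p (U.homOfLE inf_le_left : ((W i ⊓ W j : U.Opens) : Scheme.{u}) ⟶ W i) (x i) =
      FrobColimSections.map p (U.homOfLE inf_le_right) (x j)) :
    ∃ y, ∀ i, FrobColimSections.map p (W i).ι y = x i := by
  have := Fintype.ofFinite ι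
  choose n a ha using fun i => exists_rep (x i)
  let M := Finset.univ.sup n
  let b : ∀ i, Γ((W i : Scheme.{u}), ⊤) := fun i => a i ^ p ^ (M - n i)
  have hb : ∀ i, FrobColimSections.mk p M (b i) = x i := fun i =>
    (mk_eq_mk_of_le (a i) (Finset.le_sup (Finset.mem_univ i))).symm.trans (ha i)
  choose k hk using fun ij : ι × ι => exists_of_mk_eq (p := p) (n := M)
    (a := (U.homOfLE inf_le_left : ((W ij.1 ⊓ W ij.2 : U.Opens) : Scheme.{u}) ⟶ W ij.1).appTop (b ij.1))
    (b := (U.homOfLE inf_le_right : ((W ij.1 ⊓ W ij.2 : U.Opens) : Scheme.{u}) ⟶ W ij.2).appTop (b ij.2))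
    (by rw [← map_mk, ← map_mk, hb, hb]; exact h _ _)
  let K := Finset.univ.sup k
  let c : ∀ i, Γ(U, W i) := fun i => (W i).topIso.hom (b i ^ p ^ K)
  have hc : TopCat.Presheaf.IsCompatible U.presheaf W c := by
    intro i j
    have e : ∀ {V V' : U.Opens} (hle : V ≤ V') (z : Γ((V' : Scheme.{u}), ⊤)),
        U.presheaf.map (homOfLE hle).op (V'.topIso.hom z) = V.topIso.hom ((U.homOfLE hle).appTop z) := by
      intro V V' hle z
      rw [← CommRingCat.comp_apply, ← CommRingCat.comp_apply]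
      congr 2
      simp only [Scheme.Opens.topIso_hom, Scheme.homOfLE_appTop]
      erw [← U.presheaf.map_comp, ← U.presheaf.map_comp]
      rfl
    refine (e inf_le_left (b i ^ p ^ K)).trans (Eq.trans ?_ (e inf_le_right (b j ^ p ^ K)).symm)
    congr 1
    have hle : k (i, j) ≤ K := Finset.le_sup (Finset.mem_univ (i, j))
    refine (map_pow _ _ _).trans (Eq.trans ?_ (map_pow _ _ _).symm)
    exact pow_eq_of_le (hk (i, j)) hle
  obtain ⟨s, hs, -⟩ := U.sheaf.existsUnique_gluing' W ⊤ (fun i => homOfLE le_top) hW.ge c hc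
  refine ⟨FrobColimSections.mk p (M + K) s, fun i => ?_⟩
  have hsi : (W i).ι.appTop s = b i ^ p ^ K := by
    refine (appTop_ι_eq W i s).trans ?_
    refine (congrArg (W i).topIso.inv (hs i)).trans ?_
    exact congr($((W i).topIso.hom_inv_id) (b i ^ p ^ K))
  rw [map_mk, hsi, ← mk_eq_mk_add, hb]

end Glue

/-- The presheaf, lifted one universe. -/
abbrev P (p : ℕ) (S : Scheme.{u}) : (Over S)ᵒᵖ ⥤ Type (u + 1) :=
  frobColimPresheaf p S ⋙ uliftFunctor.{u + 1, u}

variable (p) {S : Scheme.{u}}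

/-- A finite quasi-compact cover subordinate to a covering sieve. -/
theorem exists_finite_cover {X : Over S} [CompactSpace X.left] {R : Sieve X}
    (hR : R ∈ QuotSh.J Scheme.zariskiPrecoverage S X) :
    ∃ (ι : Type u) (_ : Finite ι) (W : ι → X.left.Opens), (⨆ i, W i) = ⊤ ∧
      (∀ i, IsCompact (W i : Set X.left)) ∧
      ∀ i, R.arrows (Over.homMk (W i).ι : Over.mk ((W i).ι ≫ X.hom) ⟶ X) := by
  rw [GrothendieckTopology.mem_over_iff] at hR
  obtain ⟨𝒰, hle⟩ := Scheme.exists_cover_of_mem_grothendieckTopology hR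
  have hcov : ∀ x : X.left, ∃ W : X.left.Opens, IsAffineOpen W ∧ x ∈ W ∧
      R.arrows (Over.homMk W.ι : Over.mk (W.ι ≫ X.hom) ⟶ X) := by
    intro x
    obtain ⟨z, hz⟩ := 𝒰.covers x
    obtain ⟨W, hWa, hxW, hWle⟩ := exists_isAffineOpen_mem_and_subset (x := x)
      (U := (𝒰.f (𝒰.idx x)).opensRange) ⟨z, hz⟩
    refine ⟨W, hWa, hxW, ?_⟩
    have h1 : (Sieve.overEquiv X R).arrows (𝒰.f (𝒰.idx x)) := hle _ _ (Presieve.ofArrows.mk (𝒰.idx x))
    let l : (W : Scheme.{u}) ⟶ 𝒰.X (𝒰.idx x) := IsOpenImmersion.lift (𝒰.f (𝒰.idx x)) W.ι (by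
      rw [Scheme.Opens.range_ι]; exact hWle)
    have h2 := (Sieve.overEquiv X R).downward_closed h1 l
    rw [IsOpenImmersion.lift_fac, Sieve.overEquiv_iff] at h2
    exact h2
  choose W hWa hxW hWR using hcov
  obtain ⟨s, hs⟩ := isCompact_univ.elim_finite_subcover (fun x => (W x : Set X.left))
    (fun x => (W x).2) (fun x _ => Set.mem_iUnion.2 ⟨x, hxW x⟩)
  refine ⟨s, inferInstance, fun i => W i.1, top_unique fun x _ => ?_, fun i => (hWa i.1).isCompact,
    fun i => hWR i.1⟩
  obtain ⟨i, hi, hxi⟩ := Set.mem_iUnion₂.1 (hs (Set.mem_univ x))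
  exact TopologicalSpace.Opens.mem_iSup.2 ⟨⟨i, hi⟩, hxi⟩

variable (S) in
/-- The comparison with the sheafification. -/
noncomputable abbrev η : P p S ⟶ (QuotSh.J Scheme.zariskiPrecoverage S).sheafify (P p S) :=
  (QuotSh.J Scheme.zariskiPrecoverage S).toSheafify (P p S)

theorem injective_η (X : Over S) [CompactSpace X.left] :
    Function.Injective ((η p S).app (op X)) := by
  intro x y h
  obtain ⟨ι, _, W, hW, -, hR⟩ := exists_finite_cover
    (Presheaf.equalizerSieve_mem (QuotSh.J Scheme.zariskiPrecoverage S) (η p S) (X := op X) x y h)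
  refine ULift.ext _ _ (eq_of_forall_map W hW fun i => ?_)
  exact congrArg ULift.down (hR i)

theorem surjective_η (X : Over S) [CompactSpace X.left] [QuasiSeparatedSpace X.left] :
    Function.Surjective ((η p S).app (op X)) := by
  intro t
  let F := (QuotSh.J Scheme.zariskiPrecoverage S).sheafify (P p S)
  obtain ⟨ι, _, W, hW, hWc, hR⟩ := exists_finite_cover
    (Presheaf.imageSieve_mem (QuotSh.J Scheme.zariskiPrecoverage S) (η p S) (U := op X) t)
  choose x hx using hR
  have hx' : ∀ i, (η p S).app (op (Over.mk ((W i).ι ≫ X.hom))) (x i) =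
      F.map (Over.homMk (W i).ι : Over.mk ((W i).ι ≫ X.hom) ⟶ X).op t := hx
  obtain ⟨y, hy⟩ := exists_glue W hW (fun i => (x i).down) fun i j => by
    let V : Over S := Over.mk ((W i ⊓ W j).ι ≫ X.hom)
    let l₁ : V ⟶ Over.mk ((W i).ι ≫ X.hom) := Over.homMk (X.left.homOfLE inf_le_left) (by
      simp [V])
    let l₂ : V ⟶ Over.mk ((W j).ι ≫ X.hom) := Over.homMk (X.left.homOfLE inf_le_right) (by
      simp [V])
    have : CompactSpace V.left := isCompact_iff_compactSpace.1
      (QuasiSeparatedSpace.inter_isCompact _ _ (W i).2 (hWc i) (W j).2 (hWc j))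
    have key : ∀ (k : ι) (l : V ⟶ Over.mk ((W k).ι ≫ X.hom)),
        (η p S).app (op V) ((P p S).map l.op (x k)) =
          F.map (l ≫ (Over.homMk (W k).ι : Over.mk ((W k).ι ≫ X.hom) ⟶ X)).op t := fun k l => by
      rw [NatTrans.naturality_apply, hx', op_comp, Functor.map_comp_apply]
    refine congrArg ULift.down (injective_η p V (a₁ := (P p S).map l₁.op (x i))
      (a₂ := (P p S).map l₂.op (x j)) ?_)
    rw [key i l₁, key j l₂]
    congr 4
    ext
    simp [l₁, l₂]
  refine ⟨⟨y⟩, ?_⟩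
  have hsh := (isSheaf_iff_isSheaf_of_type _ F).1
    (GrothendieckTopology.sheafify_isSheaf (QuotSh.J Scheme.zariskiPrecoverage S) (P p S))
  have hR : Sieve.generate (Presieve.ofArrows (fun i => Over.mk ((W i).ι ≫ X.hom))
      (fun i => (Over.homMk (W i).ι : Over.mk ((W i).ι ≫ X.hom) ⟶ X))) ∈
      QuotSh.J Scheme.zariskiPrecoverage S X := by
    rw [GrothendieckTopology.mem_over_iff]
    refine GrothendieckTopology.superset_covering _ ?_ (Precoverage.generate_mem_toGrothendieck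
      ((X.left.openCoverOfIsOpenCover W (TopologicalSpace.IsOpenCover.mk hW)).mem₀))
    refine (Sieve.generate_le_iff _ _).2 ?_
    rintro Y g ⟨i⟩
    rw [Sieve.overEquiv_iff]
    exact Sieve.le_generate _ _ _ (Presieve.ofArrows.mk i)
  refine (hsh _ hR).isSeparatedFor.ext fun Y g hg => ?_
  obtain ⟨Z, k, _, ⟨i⟩, rfl⟩ := hg
  rw [op_comp, Functor.map_comp_apply, Functor.map_comp_apply, ← hx', ← NatTrans.naturality_apply]
  congr 2
  exact ULift.ext _ _ (hy i)

theorem bijective_η (X : Over S) [CompactSpace X.left] [QuasiSeparatedSpace X.left] :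
    Function.Bijective ((η p S).app (op X)) :=
  ⟨injective_η p X, surjective_η p X⟩

end Groth.Agent.Lib.FrobColim.Sections
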